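import Mathlib

/-! Rational function fields over primary extensions are primary. -/

set_option autoImplicit false

open Polynomial IntermediateField

namespace Groth.Agent.ZarLemma

theorem mem_perfectClosure_of_isAlgebraic {k K : Type*} [Field k] [Field K] [Algebra k K]
    (hk : ∀ a : K, IsSeparable k a → a ∈ Set.range (algebraMap k K)) {a : K} (ha : IsAlgebraic k a) :
    a ∈ perfectClosure k K := by
  obtain ⟨q, hq⟩ := ExpChar.exists k
  obtain ⟨g, hgsep, m, hm⟩ := Irreducible.hasSeparableContraction q (minpoly.irreducible ha.isIntegral)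
  have h0 : Polynomial.aeval (a ^ q ^ m) g = 0 := by
    rw [← Polynomial.expand_aeval, hm, minpoly.aeval]
  obtain ⟨b, hb⟩ := hk _ (hgsep.of_dvd (minpoly.dvd k _ h0))
  exact (mem_perfectClosure_iff_pow_mem q).2 ⟨m, b, hb⟩

theorem mem_perfectClosure_adjoin_X {k K : Type*} [Field k] [Field K] [Algebra k K]
    (hk : ∀ a : K, IsSeparable k a → a ∈ Set.range (algebraMap k K)) {ι : Type*}
    {z : FractionRing (MvPolynomial ι K)}
    (hz : IsAlgebraic (IntermediateField.adjoin k
      (Set.range fun i => algebraMap (MvPolynomial ι K) (FractionRing (MvPolynomial ι K)) (MvPolynomial.X i))) z) :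
    z ∈ perfectClosure (IntermediateField.adjoin k
      (Set.range fun i => algebraMap (MvPolynomial ι K) (FractionRing (MvPolynomial ι K)) (MvPolynomial.X i)))
      (FractionRing (MvPolynomial ι K)) := by
  classical
  set x : ι → (FractionRing (MvPolynomial ι K)) := fun i => algebraMap (MvPolynomial ι K) (FractionRing (MvPolynomial ι K)) (MvPolynomial.X i) with hx
  set E := IntermediateField.adjoin k (Set.range x) with hE
  rw [IntermediateField.isAlgebraic_adjoin_iff] at hz
  obtain ⟨y, hy0, hint⟩ := hz.exists_integral_multiple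
  obtain ⟨P, hPm, hPw⟩ := hint
  let ψ : MvPolynomial ι k →+* MvPolynomial ι K := MvPolynomial.map (algebraMap k K)
  have hψ : ∀ p : MvPolynomial ι k, algebraMap (MvPolynomial ι K) (FractionRing (MvPolynomial ι K)) (ψ p) = MvPolynomial.aeval x p := by
    intro p
    induction p using MvPolynomial.induction_on with
    | C c =>
      simp only [ψ, MvPolynomial.map_C, MvPolynomial.aeval_C]
      rw [← MvPolynomial.algebraMap_eq, ← IsScalarTower.algebraMap_apply, ← IsScalarTower.algebraMap_apply]
    | add p q hp hq => rw [map_add, map_add, map_add, hp, hq]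
    | mul_X p i hp => rw [map_mul, map_mul, map_mul, hp]; simp [ψ, hx]
  have hlift : P.map (algebraMap (Algebra.adjoin k (Set.range x)) (FractionRing (MvPolynomial ι K))) ∈
      Polynomial.lifts ((algebraMap (MvPolynomial ι K) (FractionRing (MvPolynomial ι K))).comp ψ) := by
    rw [lifts_iff_coeff_lifts]
    intro i
    rw [coeff_map]
    obtain ⟨p, hp⟩ := (SetLike.ext_iff.1 (Algebra.adjoin_range_eq_range_aeval k x) _).1 (P.coeff i).2
    exact ⟨p, (hψ p).trans hp⟩
  obtain ⟨Q, hQ, -, hQm⟩ := lifts_and_degree_eq_and_monic hlift (hPm.map _)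
  have hQw : (Q.map ψ).eval₂ (algebraMap (MvPolynomial ι K) (FractionRing (MvPolynomial ι K))) (y • z) = 0 := by
    rw [eval₂_map, ← eval_map, hQ, eval_map]
    exact hPw
  obtain ⟨φ, hφ⟩ : ∃ φ, algebraMap (MvPolynomial ι K) (FractionRing (MvPolynomial ι K)) φ = y • z :=
    IsIntegrallyClosed.isIntegral_iff.1 ⟨Q.map ψ, hQm.map ψ, hQw⟩
  letI : Algebra (MvPolynomial ι k) (MvPolynomial ι K) := ψ.toAlgebra
  have hφint : IsIntegral (MvPolynomial ι k) φ := by
    refine ⟨Q, hQm, IsFractionRing.injective (MvPolynomial ι K) (FractionRing (MvPolynomial ι K)) ?_⟩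
    rw [map_zero, hom_eval₂, hφ]
    rwa [eval₂_map] at hQw
  have hcoef := MvPolynomial.isIntegral_iff_isIntegral_coeff.1 hφint
  obtain ⟨q, hq⟩ := ExpChar.exists k
  haveI : ExpChar E q := expChar_of_injective_algebraMap (algebraMap k E).injective q
  have hxE : ∀ i, x i ∈ perfectClosure E (FractionRing (MvPolynomial ι K)) := fun i =>
    IntermediateField.algebraMap_mem _ (⟨x i, subset_adjoin k _ ⟨i, rfl⟩⟩ : E)
  have hw : y • z ∈ perfectClosure E (FractionRing (MvPolynomial ι K)) := by
    rw [← hφ, ← φ.support_sum_monomial_coeff, map_sum]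
    refine sum_mem fun n _ => ?_
    rw [MvPolynomial.monomial_eq, map_mul, Finsupp.prod, map_prod]
    refine mul_mem ?_ (prod_mem fun i _ => by rw [map_pow]; exact pow_mem (hxE i) _)
    obtain ⟨e, b, hb⟩ := (mem_perfectClosure_iff_pow_mem q).1
      (mem_perfectClosure_of_isAlgebraic hk (hcoef n).isAlgebraic)
    refine (mem_perfectClosure_iff_pow_mem q).2 ⟨e, algebraMap k E b, ?_⟩
    rw [← IsScalarTower.algebraMap_apply, ← map_pow, ← map_pow, ← hb, ← MvPolynomial.algebraMap_eq,
      ← IsScalarTower.algebraMap_apply, ← IsScalarTower.algebraMap_apply]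
  have hy : (y : (FractionRing (MvPolynomial ι K))) ∈ perfectClosure E (FractionRing (MvPolynomial ι K)) :=
    IntermediateField.algebraMap_mem _ (⟨(y : (FractionRing (MvPolynomial ι K))), IntermediateField.algebra_adjoin_le_adjoin k _ y.2⟩ : E)
  have hy0' : (y : (FractionRing (MvPolynomial ι K))) ≠ 0 := fun h => hy0 (Subtype.ext h)
  have : z = (y : (FractionRing (MvPolynomial ι K)))⁻¹ * (y • z) := by rw [Subalgebra.smul_def, smul_eq_mul, inv_mul_cancel_left₀ hy0']
  rw [this]
  exact mul_mem (inv_mem hy) hw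

end Groth.Agent.ZarLemma
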