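import Mathlib
import Groth.Agent.FieldExtLib.Tower

/-! The lemma of Zariski on generic linear combinations: primary extensions. -/

set_option autoImplicit false

open Polynomial IntermediateField

namespace Groth.Agent.ZarLemma

variable {F Ω : Type*} [Field F] [Field Ω] [Algebra F Ω]

theorem algebraicIndependent_combo {ξ γ : Ω} (h : AlgebraicIndependent F ![ξ, γ]) {a b : F} (hab : a ≠ b) :
    AlgebraicIndependent F ![ξ + algebraMap F Ω a * γ, ξ + algebraMap F Ω b * γ] := by
  let fwd : MvPolynomial (Fin 2) F →ₐ[F] MvPolynomial (Fin 2) F :=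
    MvPolynomial.aeval ![MvPolynomial.X 0 + MvPolynomial.C a * MvPolynomial.X 1,
      MvPolynomial.X 0 + MvPolynomial.C b * MvPolynomial.X 1]
  let bwd : MvPolynomial (Fin 2) F →ₐ[F] MvPolynomial (Fin 2) F :=
    MvPolynomial.aeval ![MvPolynomial.C (b / (b - a)) * MvPolynomial.X 0 - MvPolynomial.C (a / (b - a)) * MvPolynomial.X 1,
      MvPolynomial.C (1 / (b - a)) * (MvPolynomial.X 1 - MvPolynomial.X 0)]
  have hne : b - a ≠ 0 := sub_ne_zero.2 (Ne.symm hab)
  have hleft : bwd.comp fwd = AlgHom.id F _ := by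
    refine MvPolynomial.algHom_ext fun i => ?_
    have h1 : MvPolynomial.C (σ := Fin 2) (b / (b - a)) - MvPolynomial.C (a / (b - a)) = 1 := by
      rw [← map_sub, ← sub_div, div_self hne, map_one]
    have ha : MvPolynomial.C (σ := Fin 2) a * MvPolynomial.C (b - a)⁻¹ = MvPolynomial.C (a / (b - a)) := by
      rw [← map_mul, div_eq_mul_inv]
    have hb : MvPolynomial.C (σ := Fin 2) b * MvPolynomial.C (b - a)⁻¹ = MvPolynomial.C (b / (b - a)) := by
      rw [← map_mul, div_eq_mul_inv]
    fin_cases i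
    · simp [fwd, bwd]
      linear_combination (MvPolynomial.X (0 : Fin 2) : MvPolynomial (Fin 2) F) * h1 +
        ((MvPolynomial.X (1 : Fin 2) : MvPolynomial (Fin 2) F) - MvPolynomial.X 0) * ha
    · simp [fwd, bwd]
      linear_combination (MvPolynomial.X (1 : Fin 2) : MvPolynomial (Fin 2) F) * h1 +
        ((MvPolynomial.X (1 : Fin 2) : MvPolynomial (Fin 2) F) - MvPolynomial.X 0) * hb
  have hinj : Function.Injective fwd := fun p q hpq => by
    have := congrArg bwd hpq
    rwa [← AlgHom.comp_apply, ← AlgHom.comp_apply, hleft] at this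
  rw [algebraicIndependent_iff_injective_aeval] at h ⊢
  have hcomp : (MvPolynomial.aeval ![ξ + algebraMap F Ω a * γ, ξ + algebraMap F Ω b * γ] :
      MvPolynomial (Fin 2) F →ₐ[F] Ω) = (MvPolynomial.aeval ![ξ, γ]).comp fwd := by
    refine MvPolynomial.algHom_ext fun i => ?_
    fin_cases i <;> simp [fwd]
  rw [hcomp]
  exact h.comp hinj

theorem transcendental_over_separableClosure {u v : Ω} (h : AlgebraicIndependent F ![u, v]) :
    Transcendental (separableClosure F⟮u⟯ Ω) v := by
  intro halg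
  have h1 : IsAlgebraic F⟮u⟯ v := halg.restrictScalars F⟮u⟯
  rw [IntermediateField.isAlgebraic_adjoin_iff] at h1
  have h2 := h.transcendental_adjoin (s := {0}) (i := 1) (by simp)
  rw [Set.image_singleton] at h2
  exact h2 h1

/-- Values at almost all constants of an element of `M(v)` lie in `F(u)`. -/
def Specialises (F₁ : IntermediateField F Ω) (M : IntermediateField F₁ Ω) (v z : Ω) : Prop :=
  ∃ R S : M[X], S ≠ 0 ∧ z * aeval v S = aeval v R ∧
    {c : F | (R.eval (algebraMap F M c) / S.eval (algebraMap F M c)) ∉ Set.range (algebraMap F₁ M)}.Finite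

variable {F₁ : IntermediateField F Ω} {M : IntermediateField F₁ Ω} {v : Ω}

theorem finite_bad_roots {S : M[X]} (hS : S ≠ 0) : {c : F | S.eval (algebraMap F M c) = 0}.Finite := by
  refine Set.Finite.of_finite_image (f := algebraMap F M) ?_ (algebraMap F M).injective.injOn
  refine (Polynomial.finite_setOf_isRoot hS).subset ?_
  rintro _ ⟨c, hc, rfl⟩
  exact hc

theorem Specialises.add {z z' : Ω} (h : Specialises F₁ M v z) (h' : Specialises F₁ M v z') :
    Specialises F₁ M v (z + z') := by
  obtain ⟨R, S, hS, hz, hf⟩ := h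
  obtain ⟨R', S', hS', hz', hf'⟩ := h'
  refine ⟨R * S' + R' * S, S * S', mul_ne_zero hS hS', by simp only [map_add, map_mul, ← hz, ← hz']; ring,
    (((hf.union hf').union (finite_bad_roots hS)).union (finite_bad_roots hS')).subset fun c hc => ?_⟩
  by_contra hn
  simp only [Set.mem_union, Set.mem_setOf_eq, not_or, not_not] at hn
  obtain ⟨⟨⟨⟨y, hy⟩, y', hy'⟩, hcS⟩, hcS'⟩ := hn
  refine hc ⟨y + y', ?_⟩
  rw [map_add, hy, hy', div_add_div _ _ hcS hcS']
  simp only [eval_add, eval_mul]
  ring

theorem Specialises.mul {z z' : Ω} (h : Specialises F₁ M v z) (h' : Specialises F₁ M v z') :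
    Specialises F₁ M v (z * z') := by
  obtain ⟨R, S, hS, hz, hf⟩ := h
  obtain ⟨R', S', hS', hz', hf'⟩ := h'
  refine ⟨R * R', S * S', mul_ne_zero hS hS', by simp only [map_mul, ← hz, ← hz']; ring,
    (hf.union hf').subset fun c hc => ?_⟩
  by_contra hn
  simp only [Set.mem_union, Set.mem_setOf_eq, not_or, not_not] at hn
  obtain ⟨⟨y, hy⟩, y', hy'⟩ := hn
  exact hc ⟨y * y', by rw [map_mul, hy, hy', div_mul_div_comm, eval_mul, eval_mul]⟩

theorem Specialises.of_mem {y : F₁} : Specialises F₁ M v (algebraMap F₁ Ω y) := by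
  refine ⟨C (algebraMap F₁ M y), 1, one_ne_zero, by simp [← IsScalarTower.algebraMap_apply], ?_⟩
  simp

theorem Specialises.inv (hv : Transcendental M v) {z : Ω} (h : Specialises F₁ M v z) :
    Specialises F₁ M v z⁻¹ := by
  rcases eq_or_ne z 0 with rfl | hz0
  · rw [inv_zero, ← map_zero (algebraMap F₁ Ω)]
    exact Specialises.of_mem
  obtain ⟨R, S, hS, hz, hf⟩ := h
  have hinj : Function.Injective (aeval v : M[X] →ₐ[M] Ω) := transcendental_iff_injective.1 hv
  have hR : R ≠ 0 := by
    rintro rfl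
    rw [map_zero, mul_eq_zero] at hz
    exact hz.elim hz0 fun h0 => hS (hinj (by rw [h0, map_zero]))
  refine ⟨S, R, hR, by rw [← hz, inv_mul_cancel_left₀ hz0], hf.subset fun c hc hc' => ?_⟩
  obtain ⟨y, hy⟩ := hc'
  exact hc ⟨y⁻¹, by rw [map_inv₀, hy, inv_div]⟩

theorem Specialises.mem_range (hv : Transcendental M v) [Infinite F] {θ : M}
    (h : Specialises F₁ M v (θ : Ω)) : θ ∈ Set.range (algebraMap F₁ M) := by
  obtain ⟨R, S, hS, hz, hf⟩ := h
  have hinj : Function.Injective (aeval v : M[X] →ₐ[M] Ω) := transcendental_iff_injective.1 hv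
  have hR : C θ * S = R := hinj (by rw [map_mul, aeval_C]; exact hz)
  obtain ⟨c, hc⟩ : ∃ c : F, c ∉ {c : F | S.eval (algebraMap F M c) = 0} ∪
      {c : F | (R.eval (algebraMap F M c) / S.eval (algebraMap F M c)) ∉ Set.range (algebraMap F₁ M)} :=
    ((finite_bad_roots hS).union hf).exists_notMem
  simp only [Set.mem_union, Set.mem_setOf_eq, not_or, not_not] at hc
  obtain ⟨hcS, hcR⟩ := hc
  rwa [← hR, eval_mul, eval_C, mul_div_assoc, div_self hcS, mul_one] at hcR

theorem finite_setOf_eval_eq_zero {Q : F[X][X]} {i : ℕ} (hi : Q.coeff i ≠ 0) :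
    {c : F | Q.map (evalRingHom c) = 0}.Finite := by
  refine (Polynomial.finite_setOf_isRoot hi).subset fun c hc => ?_
  have h := congrArg (fun p : F[X] => p.coeff i) hc
  simpa [coeff_map] using h

/-- An element separable over `F(v)` which lies in `M(v)` specialises into `F(u)`. -/
theorem Specialises.of_algebraic {u : Ω} {M : IntermediateField F⟮u⟯ Ω} [Algebra.IsSeparable F⟮u⟯ M]
    (hF : ∀ z : Ω, IsAlgebraic F z → z ∈ perfectClosure F Ω) (hv : Transcendental M v) {m : Ω}
    (hm : m ∈ adjoin M {v}) (halg : IsAlgebraic F⟮v⟯ m) : Specialises F⟮u⟯ M v m := by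
  classical
  obtain ⟨R, S, hm'⟩ := (mem_adjoin_simple_iff M m).1 hm
  by_cases hS0 : aeval v S = 0
  · rw [hS0, div_zero] at hm'
    subst hm'
    rw [← map_zero (algebraMap F⟮u⟯ Ω)]
    exact Specialises.of_mem
  have hS : S ≠ 0 := fun h => hS0 (by rw [h, map_zero])
  have hz : m * aeval v S = aeval v R := by rw [hm', div_mul_cancel₀ _ hS0]
  rw [IntermediateField.isAlgebraic_adjoin_iff] at halg
  obtain ⟨P, hP0, hPm⟩ := halg
  have hlift : P.map (algebraMap (Algebra.adjoin F ({v} : Set Ω)) Ω) ∈ Polynomial.lifts ((aeval v : F[X] →ₐ[F] Ω).toRingHom) := by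
    rw [lifts_iff_coeff_lifts]
    intro i
    rw [coeff_map]
    exact (SetLike.ext_iff.1 (Algebra.adjoin_singleton_eq_range_aeval F v) _).1 (P.coeff i).2
  obtain ⟨Q, hQ⟩ := (Polynomial.mem_lifts _).1 hlift
  have hQ0 : Q ≠ 0 := by
    rintro rfl
    rw [Polynomial.map_zero] at hQ
    exact hP0 ((Polynomial.map_eq_zero_iff Subtype.val_injective).1 hQ.symm)
  have hQm : Q.eval₂ (aeval v : F[X] →ₐ[F] Ω).toRingHom m = 0 := by
    rw [← eval_map, hQ, eval_map, ← aeval_def]; exact hPm
  let D := Q.natDegree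
  haveI : IsScalarTower F M Ω := IsScalarTower.of_algebraMap_eq fun x => rfl
  let H : M[X] := ∑ i ∈ Finset.range (D + 1), (Q.coeff i).map (algebraMap F M) * R ^ i * S ^ (D - i)
  have hH : H = 0 := by
    refine transcendental_iff_injective.1 hv ?_
    rw [map_zero, map_sum]
    have : ∀ i ∈ Finset.range (D + 1), aeval v ((Q.coeff i).map (algebraMap F M) * R ^ i * S ^ (D - i)) =
        aeval v S ^ D * ((aeval v : F[X] →ₐ[F] Ω).toRingHom (Q.coeff i) * m ^ i) := by
      intro i hi
      rw [map_mul, map_mul, map_pow, map_pow, aeval_map_algebraMap, ← hz, mul_pow]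
      have hsp : aeval v S ^ D = aeval v S ^ i * aeval v S ^ (D - i) := by
        rw [← pow_add, Nat.add_sub_cancel' (Nat.lt_succ_iff.1 (Finset.mem_range.1 hi))]
      rw [hsp]
      show aeval v (Q.coeff i) * _ * _ = _ * (aeval v (Q.coeff i) * _)
      ring
    rw [Finset.sum_congr rfl this, ← Finset.mul_sum]
    rw [eval₂_eq_sum_range] at hQm
    rw [hQm, mul_zero]
  obtain ⟨i₀, hi₀⟩ : ∃ i, Q.coeff i ≠ 0 := ⟨D, by
    rw [show Q.coeff D = Q.leadingCoeff from rfl, leadingCoeff_ne_zero]; exact hQ0⟩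
  refine ⟨R, S, hS, hz, ((finite_bad_roots hS).union (finite_setOf_eval_eq_zero hi₀)).subset fun c hc => ?_⟩
  by_contra hn
  simp only [Set.mem_union, Set.mem_setOf_eq, not_or] at hn
  obtain ⟨hcS, hcQ⟩ := hn
  apply hc
  set cM := algebraMap F M c with hcM
  set w : M := R.eval cM / S.eval cM with hw
  have hwalg : IsAlgebraic F w := by
    refine ⟨Q.map (evalRingHom c), hcQ, ?_⟩
    have h0 := congrArg (eval cM) hH
    rw [eval_zero, eval_finsetSum] at h0
    rw [aeval_def, eval₂_map, eval₂_eq_sum_range]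
    have key : ∀ i ∈ Finset.range (D + 1), eval cM ((Q.coeff i).map (algebraMap F M) * R ^ i * S ^ (D - i)) =
        eval cM S ^ D * (((algebraMap F M).comp (evalRingHom c)) (Q.coeff i) * w ^ i) := by
      intro i hi
      rw [eval_mul, eval_mul, eval_pow, eval_pow, hw, div_pow, hcM, eval_map_apply, RingHom.comp_apply, coe_evalRingHom]
      have hsp : eval cM S ^ D = eval cM S ^ i * eval cM S ^ (D - i) := by
        rw [← pow_add, Nat.add_sub_cancel' (Nat.lt_succ_iff.1 (Finset.mem_range.1 hi))]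
      rw [← hcM, hsp]
      field_simp
    rw [Finset.sum_congr rfl key, ← Finset.mul_sum, mul_eq_zero] at h0
    exact h0.resolve_left (pow_ne_zero _ hcS)
  have hwF : (w : Ω) ∈ perfectClosure F Ω :=
    hF _ (hwalg.algHom (M.val.restrictScalars F))
  have hw1 : (w : Ω) ∈ perfectClosure F⟮u⟯ Ω := by
    obtain ⟨q, hq⟩ := ExpChar.exists F
    haveI : ExpChar F⟮u⟯ q := expChar_of_injective_algebraMap (algebraMap F F⟮u⟯).injective q
    obtain ⟨e, y, hy⟩ := (mem_perfectClosure_iff_pow_mem q).1 hwF
    exact (mem_perfectClosure_iff_pow_mem q).2 ⟨e, algebraMap F F⟮u⟯ y, by rw [← hy, ← IsScalarTower.algebraMap_apply]⟩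
  have hw2 : (w : Ω) ∈ separableClosure F⟮u⟯ Ω :=
    (le_separableClosure_iff F⟮u⟯ Ω M).2 inferInstance w.2
  have hbot : (w : Ω) ∈ separableClosure F⟮u⟯ Ω ⊓ perfectClosure F⟮u⟯ Ω := ⟨hw2, hw1⟩
  rw [separableClosure_inf_perfectClosure, IntermediateField.mem_bot] at hbot
  obtain ⟨y, hy⟩ := hbot
  exact ⟨y, Subtype.ext hy⟩

/-- Among infinitely many combinations `ξ + aγ`, one has `F(ξ + aγ)` separably closed in `Ω`. -/
theorem exists_separableClosure_eq_bot [Algebra.EssFiniteType F Ω]
    (hF : ∀ z : Ω, IsAlgebraic F z → z ∈ perfectClosure F Ω) {ξ γ : Ω} (hind : AlgebraicIndependent F ![ξ, γ])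
    {A : Set F} (hA : A.Infinite) :
    ∃ a ∈ A, separableClosure F⟮ξ + algebraMap F Ω a * γ⟯ Ω = ⊥ := by
  classical
  haveI : Infinite F := Infinite.of_injective _ (Set.Infinite.natEmbedding A hA |>.trans ⟨Subtype.val, Subtype.val_injective⟩).injective
  let B : IntermediateField F Ω := adjoin F {ξ, γ}
  have hξ : ξ ∈ B := subset_adjoin F _ (by simp)
  have hγ : γ ∈ B := subset_adjoin F _ (by simp)
  let S := separableClosure B Ω
  haveI : Algebra.EssFiniteType B Ω := Algebra.EssFiniteType.of_comp F B Ω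
  haveI : Algebra.EssFiniteType B S := Groth.Agent.FieldExtLib.essFiniteType_intermediate B S Ω
  haveI : FiniteDimensional B S := Algebra.finite_of_essFiniteType_of_isAlgebraic
  haveI : Finite (IntermediateField B S) :=
    Field.finite_intermediateField_of_exists_primitive_element B S (Field.exists_primitive_element B S)
  let u : F → Ω := fun a => ξ + algebraMap F Ω a * γ
  let Ms : F → IntermediateField B Ω := fun a => adjoin B (separableClosure F⟮u a⟯ Ω : Set Ω)
  have hMs : ∀ a, Ms a ≤ S := fun a => adjoin_le_iff.2 fun z hz => by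
    have hle : F⟮u a⟯ ≤ B := adjoin_simple_le_iff.2 (add_mem hξ (mul_mem (IntermediateField.algebraMap_mem B a) hγ))
    letI : Algebra F⟮u a⟯ B := (IntermediateField.inclusion hle).toRingHom.toAlgebra
    haveI : IsScalarTower F⟮u a⟯ B Ω := IsScalarTower.of_algebraMap_eq fun _ => rfl
    exact mem_separableClosure_iff.2 ((mem_separableClosure_iff.1 hz).tower_top B)
  have hfin : (Ms '' A).Finite := by
    refine (Set.finite_range (fun N : IntermediateField B S => IntermediateField.lift N)).subset ?_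
    rintro _ ⟨a, -, rfl⟩
    exact ⟨IntermediateField.restrict (hMs a), IntermediateField.lift_restrict (hMs a)⟩
  obtain ⟨a, ha, b, hb, hab, heq⟩ : ∃ a ∈ A, ∃ b ∈ A, a ≠ b ∧ Ms a = Ms b := by
    by_contra hno
    simp only [not_exists, not_and] at hno
    exact hA (Set.Finite.of_finite_image hfin fun x hx y hy hxy => by_contra fun hne => hno x hx y hy hne hxy)
  refine ⟨a, ha, ?_⟩
  set M := separableClosure F⟮u a⟯ Ω with hM
  have hv : Transcendental M (u b) := transcendental_over_separableClosure (algebraicIndependent_combo hind hab)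
  have huv : algebraMap F Ω (a - b) * γ = u a - u b := by simp [u, map_sub]; ring
  have hab' : algebraMap F Ω (a - b) ≠ 0 := by
    rw [Ne, map_eq_zero]; exact sub_ne_zero.2 hab
  -- the elements generated by `M` and `u b`
  let G : IntermediateField F Ω := (adjoin M {u b}).restrictScalars F⟮u a⟯ |>.restrictScalars F
  have hMG : ∀ z ∈ M, z ∈ G := fun z hz => IntermediateField.algebraMap_mem (adjoin M {u b}) ⟨z, hz⟩
  have haG : u a ∈ G := hMG _ (IntermediateField.algebraMap_mem M (⟨u a, mem_adjoin_simple_self F (u a)⟩ : F⟮u a⟯))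
  have hbG : u b ∈ G := mem_adjoin_simple_self M (u b)
  have hγG : γ ∈ G := by
    have : γ = (u a - u b) * (algebraMap F Ω (a - b))⁻¹ := by rw [← huv]; field_simp
    rw [this]
    exact mul_mem (sub_mem haG hbG) (inv_mem (IntermediateField.algebraMap_mem G _))
  have hξG : ξ ∈ G := by
    have : ξ = u a - algebraMap F Ω a * γ := by simp [u]
    rw [this]
    exact sub_mem haG (mul_mem (IntermediateField.algebraMap_mem G a) hγG)
  have hMsG : ∀ z ∈ Ms a, z ∈ G := by
    intro z hz
    have hle : (Ms a).restrictScalars F ≤ G := by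
      rw [IntermediateField.restrictScalars_adjoin, adjoin_le_iff]
      rintro y (hy | hy)
      · exact (adjoin_le_iff.2 (Set.insert_subset hξG (Set.singleton_subset_iff.2 hγG)) : B ≤ G) hy
      · exact hMG y hy
    exact hle hz
  -- the specialisable elements
  let T : IntermediateField F Ω :=
    { carrier := {z | Specialises F⟮u a⟯ M (u b) z}
      mul_mem' := fun h h' => h.mul h'
      add_mem' := fun h h' => h.add h'
      algebraMap_mem' := fun c => by
        show Specialises F⟮u a⟯ M (u b) (algebraMap F Ω c)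
        rw [IsScalarTower.algebraMap_apply F F⟮u a⟯ Ω]
        exact Specialises.of_mem
      zero_mem' := by
        show Specialises F⟮u a⟯ M (u b) 0
        rw [← map_zero (algebraMap F⟮u a⟯ Ω)]; exact Specialises.of_mem
      one_mem' := by
        show Specialises F⟮u a⟯ M (u b) 1
        rw [← map_one (algebraMap F⟮u a⟯ Ω)]; exact Specialises.of_mem
      inv_mem' := fun z h => h.inv hv }
  have haT : u a ∈ T := Specialises.of_mem (y := (⟨u a, mem_adjoin_simple_self F (u a)⟩ : F⟮u a⟯))
  have hbT : u b ∈ T := by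
    refine ⟨Polynomial.X, 1, one_ne_zero, by simp, Set.Finite.subset Set.finite_empty fun c hc => hc ⟨algebraMap F _ c, ?_⟩⟩
    rw [eval_X, eval_one, div_one, ← IsScalarTower.algebraMap_apply]
  have hγT : γ ∈ T := by
    have : γ = (u a - u b) * (algebraMap F Ω (a - b))⁻¹ := by rw [← huv]; field_simp
    rw [this]
    exact mul_mem (sub_mem haT hbT) (inv_mem (IntermediateField.algebraMap_mem T _))
  have hξT : ξ ∈ T := by
    have : ξ = u a - algebraMap F Ω a * γ := by simp [u]
    rw [this]
    exact sub_mem haT (mul_mem (IntermediateField.algebraMap_mem T a) hγT)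
  haveI : Algebra.IsSeparable F⟮u a⟯ M := separableClosure.isSeparable _ _
  have hMbT : ∀ z ∈ separableClosure F⟮u b⟯ Ω, z ∈ T := by
    intro z hz
    refine Specialises.of_algebraic hF hv ?_ (mem_separableClosure_iff.1 hz).isIntegral.isAlgebraic
    exact hMsG z (heq ▸ subset_adjoin B _ hz)
  have hMsT : (Ms b).restrictScalars F ≤ T := by
    rw [IntermediateField.restrictScalars_adjoin, adjoin_le_iff]
    rintro y (hy | hy)
    · exact (adjoin_le_iff.2 (Set.insert_subset hξT (Set.singleton_subset_iff.2 hγT)) : B ≤ T) hy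
    · exact hMbT y hy
  rw [eq_bot_iff]
  intro z hz
  have hzT : z ∈ T := hMsT (show z ∈ Ms b from heq ▸ subset_adjoin B _ hz)
  obtain ⟨y, hy⟩ := Specialises.mem_range hv (θ := ⟨z, hz⟩) hzT
  exact IntermediateField.mem_bot.2 ⟨y, congrArg Subtype.val hy⟩

end Groth.Agent.ZarLemma
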