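import Mathlib
import Groth.Agent.ZarLemma.Main
import Groth.Agent.ZarLemma.Base

/-! The lemma of Zariski on a generic linear combination of elements of a primary extension. -/

set_option autoImplicit false

open IntermediateField

namespace Groth.Agent.ZarLemma

/-- Transfer of separable closedness along a compatible map of extensions. -/
theorem mem_range_of_transfer {A B L M : Type*} [Field A] [Field B] [Field L] [Field M] [Algebra A L] [Algebra B M]
    (e : A →+* B) (σ : L →+* M) (h : (algebraMap B M).comp e = σ.comp (algebraMap A L))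
    (hB : separableClosure B M = ⊥) {z : L} (hz : IsSeparable A z) : σ z ∈ Set.range (algebraMap B M) := by
  have h0 : Polynomial.aeval (σ z) ((minpoly A z).map e) = 0 := by
    rw [Polynomial.aeval_def, Polynomial.eval₂_map, h, ← Polynomial.hom_eval₂, ← Polynomial.aeval_def, minpoly.aeval,
      map_zero]
  have hs : IsSeparable B (σ z) := (Polynomial.Separable.map (f := e) hz).of_dvd (minpoly.dvd B _ h0)
  have hm : σ z ∈ separableClosure B M := mem_separableClosure_iff.2 hs
  rw [hB] at hm
  exact IntermediateField.mem_bot.1 hm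

theorem separableClosure_generic_eq_bot {k K : Type*} [Field k] [Field K] [Algebra k K] [Algebra.EssFiniteType k K]
    (hk : ∀ a : K, IsSeparable k a → a ∈ Set.range (algebraMap k K)) {ι : Type*} [Fintype ι]
    (g : ι → K) (c : ι → k)
    (hind : AlgebraicIndependent k (Sum.elim (fun i => (MvPolynomial.X i : MvPolynomial ι K))
      ![∑ i, MvPolynomial.C (g i) * MvPolynomial.X i, MvPolynomial.C (∑ i, c i • g i)])) :
    separableClosure ↥(IntermediateField.adjoin k
      (Set.range (fun i => algebraMap (MvPolynomial ι K) (FractionRing (MvPolynomial ι K)) (MvPolynomial.X i)) ∪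
        {algebraMap (MvPolynomial ι K) (FractionRing (MvPolynomial ι K)) (∑ i, MvPolynomial.C (g i) * MvPolynomial.X i)}))
      (FractionRing (MvPolynomial ι K)) = ⊥ := by
  classical
  let i₁ : (MvPolynomial (Option ι) K) →ₐ[K] (FractionRing (MvPolynomial (Option ι) K)) := IsScalarTower.toAlgHom K (MvPolynomial (Option ι) K) (FractionRing (MvPolynomial (Option ι) K))
  have hi₁ : Function.Injective i₁ := IsFractionRing.injective (MvPolynomial (Option ι) K) (FractionRing (MvPolynomial (Option ι) K))
  let x : Option ι → (FractionRing (MvPolynomial (Option ι) K)) := fun o => i₁ (MvPolynomial.X o)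
  let ξp : (MvPolynomial ι K) := ∑ i, MvPolynomial.C (g i) * MvPolynomial.X i
  let γ₀ : K := ∑ i, c i • g i
  let ξ : (FractionRing (MvPolynomial (Option ι) K)) := i₁ (MvPolynomial.rename some ξp)
  let γ : (FractionRing (MvPolynomial (Option ι) K)) := i₁ (MvPolynomial.C γ₀)
  -- independence with the new variable
  let fam₀ := Sum.elim (fun i => (MvPolynomial.X i : (MvPolynomial ι K))) ![ξp, MvPolynomial.C γ₀]
  let fam : Option (ι ⊕ Fin 2) → (MvPolynomial (Option ι) K) := fun o => o.elim (MvPolynomial.X none) fun j => MvPolynomial.rename some (fam₀ j)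
  have hfam : AlgebraicIndependent k fam := by
    rw [algebraicIndependent_iff_injective_aeval]
    let θ : MvPolynomial (Option (ι ⊕ Fin 2)) k →ₐ[k] (MvPolynomial (Option ι) K) :=
      ((MvPolynomial.optionEquivLeft K ι).symm.toAlgHom.restrictScalars k).comp
        ((Polynomial.mapAlgHom (MvPolynomial.aeval fam₀ : MvPolynomial (ι ⊕ Fin 2) k →ₐ[k] (MvPolynomial ι K))).comp
          (MvPolynomial.optionEquivLeft k (ι ⊕ Fin 2)).toAlgHom)
    have hθ : (MvPolynomial.aeval fam : MvPolynomial (Option (ι ⊕ Fin 2)) k →ₐ[k] (MvPolynomial (Option ι) K)) = θ := by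
      refine MvPolynomial.algHom_ext fun o => ?_
      cases o with
      | none =>
        simp [θ, fam, MvPolynomial.optionEquivLeft_symm_apply]
      | some j =>
        simp [θ, fam, MvPolynomial.optionEquivLeft_symm_apply]
    rw [hθ]
    exact (MvPolynomial.optionEquivLeft K ι).symm.injective.comp
      ((Polynomial.map_injective _ hind).comp (MvPolynomial.optionEquivLeft k (ι ⊕ Fin 2)).injective)
  have hsum : AlgebraicIndependent k (Sum.elim ![ξ, γ] x) := by
    have h := (hfam.map' (f := i₁.restrictScalars k) hi₁).comp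
      (Sum.elim (fun j : Fin 2 => some (Sum.inr j)) (Option.map Sum.inl))
      (Function.Injective.sumElim ((Option.some_injective _).comp Sum.inr_injective)
        (Option.map_injective Sum.inl_injective) (fun a b => by cases b <;> simp))
    convert h using 1
    funext o
    rcases o with j | (_ | i)
    · fin_cases j
      · rfl
      · exact congrArg i₁ (MvPolynomial.rename_C _ _).symm
    · rfl
    · simp [fam, fam₀, x, i₁]
  let F := IntermediateField.adjoin k (Set.range x)
  have hF : AlgebraicIndependent F ![ξ, γ] :=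
    IntermediateField.algebraicIndependent_adjoin_iff.2 (AlgebraicIndependent.sumElim_iff.1 hsum).2
  haveI : Algebra.EssFiniteType k (MvPolynomial (Option ι) K) := Algebra.EssFiniteType.comp k K (MvPolynomial (Option ι) K)
  haveI : Algebra.EssFiniteType (MvPolynomial (Option ι) K) (FractionRing (MvPolynomial (Option ι) K)) := Algebra.EssFiniteType.of_isLocalization (FractionRing (MvPolynomial (Option ι) K)) (nonZeroDivisors (MvPolynomial (Option ι) K))
  haveI : Algebra.EssFiniteType k (FractionRing (MvPolynomial (Option ι) K)) := Algebra.EssFiniteType.comp k (MvPolynomial (Option ι) K) (FractionRing (MvPolynomial (Option ι) K))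
  haveI : Algebra.EssFiniteType F (FractionRing (MvPolynomial (Option ι) K)) := Algebra.EssFiniteType.of_comp k F (FractionRing (MvPolynomial (Option ι) K))
  have hxF : ∀ o, x o ∈ F := fun o => subset_adjoin k _ ⟨o, rfl⟩
  let t : F := ⟨x none, hxF none⟩
  have hA : (Set.range fun n : ℕ => t ^ n).Infinite := by
    refine Set.infinite_range_of_injective fun n m hnm => ?_
    have h1 := congrArg Subtype.val hnm
    simp only [t, SubmonoidClass.coe_pow, x, ← map_pow] at h1
    have h2 := congrArg MvPolynomial.totalDegree (hi₁ h1)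
    rwa [MvPolynomial.totalDegree_X_pow, MvPolynomial.totalDegree_X_pow] at h2
  have hE : Algebra.EssFiniteType F (FractionRing (MvPolynomial (Option ι) K)) := inferInstance
  have hq : ∀ z : (FractionRing (MvPolynomial (Option ι) K)), IsAlgebraic F z → z ∈ perfectClosure F (FractionRing (MvPolynomial (Option ι) K)) := fun z hz => mem_perfectClosure_adjoin_X hk hz
  obtain ⟨_, ⟨n, rfl⟩, hn⟩ := exists_separableClosure_eq_bot hq hF hA
  let u : (FractionRing (MvPolynomial (Option ι) K)) := ξ + algebraMap F (FractionRing (MvPolynomial (Option ι) K)) (t ^ n) * γ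
  -- the automorphism carrying `ξ` to `u`
  let σp : (MvPolynomial (Option ι) K) →ₐ[K] (MvPolynomial (Option ι) K) := MvPolynomial.aeval fun o => o.elim (MvPolynomial.X none) fun i =>
    MvPolynomial.X (some i) + MvPolynomial.C (algebraMap k K (c i)) * MvPolynomial.X none ^ n
  let τp : (MvPolynomial (Option ι) K) →ₐ[K] (MvPolynomial (Option ι) K) := MvPolynomial.aeval fun o => o.elim (MvPolynomial.X none) fun i =>
    MvPolynomial.X (some i) - MvPolynomial.C (algebraMap k K (c i)) * MvPolynomial.X none ^ n
  have hτσ : τp.comp σp = AlgHom.id K (MvPolynomial (Option ι) K) := by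
    refine MvPolynomial.algHom_ext fun o => ?_
    cases o <;> simp [σp, τp]
  have hσp : Function.Injective (i₁.comp σp) := fun a b hab => by
    exact (DFunLike.congr_fun hτσ a).symm.trans ((congrArg τp (hi₁ hab)).trans (DFunLike.congr_fun hτσ b))
  let σ : (FractionRing (MvPolynomial (Option ι) K)) →ₐ[k] (FractionRing (MvPolynomial (Option ι) K)) := (IsFractionRing.liftAlgHom (K := FractionRing (MvPolynomial (Option ι) K)) hσp).restrictScalars k
  have hσalg : ∀ p : (MvPolynomial (Option ι) K), σ (i₁ p) = i₁ (σp p) := fun p => IsFractionRing.lift_algebraMap hσp p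
  have hσt : σ (x none) = x none := by rw [hσalg]; simp [σp, x]
  have htn : algebraMap F (FractionRing (MvPolynomial (Option ι) K)) (t ^ n) = x none ^ n := rfl
  have hσx : ∀ i : ι, σ (x (some i)) = x (some i) + algebraMap k (FractionRing (MvPolynomial (Option ι) K)) (c i) * x none ^ n := by
    intro i
    rw [hσalg]
    simp only [σp, x, i₁, MvPolynomial.aeval_X, Option.elim_some, map_add, map_mul, map_pow,
      IsScalarTower.toAlgHom_apply]
    rw [← MvPolynomial.algebraMap_eq, ← IsScalarTower.algebraMap_apply, ← IsScalarTower.algebraMap_apply]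
  have hσξ : σ ξ = u := by
    simp only [ξ, u, γ, hσalg]
    rw [htn]
    simp only [x, ← map_pow, ← map_mul, ← map_add]
    congr 1
    simp only [ξp, γ₀, σp, map_sum, Finset.mul_sum, ← Finset.sum_add_distrib]
    refine Finset.sum_congr rfl fun i _ => ?_
    simp [Algebra.smul_def]
    ring
  let E₁ : IntermediateField k (FractionRing (MvPolynomial (Option ι) K)) := IntermediateField.adjoin k (Set.range x ∪ {ξ})
  let E₂ : IntermediateField k (FractionRing (MvPolynomial (Option ι) K)) := F⟮u⟯.restrictScalars k
  have hE₂ : E₂ = IntermediateField.adjoin k (Set.range x ∪ {u}) := adjoin_adjoin_left k (Set.range x) {u}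
  have hmap : E₁.map σ = E₂ := by
    rw [IntermediateField.adjoin_map, hE₂]
    apply le_antisymm <;> rw [adjoin_le_iff]
    · rintro _ ⟨y, (⟨o, rfl⟩ | rfl), rfl⟩
      · cases o with
        | none => rw [SetLike.mem_coe, hσt]; exact subset_adjoin k _ (Or.inl ⟨none, rfl⟩)
        | some i =>
          rw [SetLike.mem_coe, hσx]
          refine add_mem (subset_adjoin k _ (Or.inl ⟨some i, rfl⟩)) (mul_mem (IntermediateField.algebraMap_mem _ _) ?_)
          exact pow_mem (subset_adjoin k _ (Or.inl ⟨none, rfl⟩) : x none ∈ IntermediateField.adjoin k (Set.range x ∪ {u})) n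
      · rw [SetLike.mem_coe, hσξ]; exact subset_adjoin k _ (Or.inr rfl)
    · rintro y (⟨o, rfl⟩ | rfl)
      · cases o with
        | none => exact subset_adjoin k _ ⟨_, Or.inl ⟨none, rfl⟩, hσt⟩
        | some i =>
          have : x (some i) = σ (x (some i)) - algebraMap k (FractionRing (MvPolynomial (Option ι) K)) (c i) * σ (x none) ^ n := by rw [hσx, hσt]; ring
          rw [SetLike.mem_coe, this]
          refine sub_mem (subset_adjoin k _ ⟨_, Or.inl ⟨some i, rfl⟩, rfl⟩) (mul_mem (IntermediateField.algebraMap_mem _ _) ?_)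
          exact pow_mem (subset_adjoin k _ ⟨_, Or.inl ⟨none, rfl⟩, rfl⟩ : σ (x none) ∈ IntermediateField.adjoin k (σ '' (Set.range x ∪ {ξ}))) n
      · exact subset_adjoin k _ ⟨ξ, Or.inr rfl, hσξ⟩
  have hE₁ : separableClosure E₁ (FractionRing (MvPolynomial (Option ι) K)) = ⊥ := by
    rw [eq_bot_iff]
    intro z hz
    let e : E₁ →+* F⟮u⟯ :=
      (σ.toRingHom.comp (algebraMap E₁ (FractionRing (MvPolynomial (Option ι) K)))).codRestrict F⟮u⟯ fun y =>
        show σ y ∈ E₂ from hmap ▸ ⟨y, y.2, rfl⟩
    obtain ⟨b, hb⟩ := mem_range_of_transfer e σ.toRingHom (RingHom.ext fun y => rfl) hn (mem_separableClosure_iff.1 hz)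
    obtain ⟨y, hy, hyb⟩ : σ z ∈ E₁.map σ := by
      rw [hmap]
      show σ z ∈ F⟮u⟯
      exact hb ▸ b.2
    exact IntermediateField.mem_bot.2 ⟨⟨y, hy⟩, σ.toRingHom.injective hyb⟩
  -- descent to `(FractionRing (MvPolynomial ι K))`
  have hren : Function.Injective (i₁.comp (MvPolynomial.rename some)) :=
    hi₁.comp (MvPolynomial.rename_injective _ (Option.some_injective ι))
  let j : (FractionRing (MvPolynomial ι K)) →ₐ[k] (FractionRing (MvPolynomial (Option ι) K)) := (IsFractionRing.liftAlgHom (K := FractionRing (MvPolynomial ι K)) hren).restrictScalars k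
  have hjalg : ∀ p : (MvPolynomial ι K), j (algebraMap (MvPolynomial ι K) (FractionRing (MvPolynomial ι K)) p) = i₁ (MvPolynomial.rename some p) :=
    fun p => IsFractionRing.lift_algebraMap hren p
  set E₀ := IntermediateField.adjoin k
      (Set.range (fun i => algebraMap (MvPolynomial ι K) (FractionRing (MvPolynomial ι K)) (MvPolynomial.X i)) ∪
        {algebraMap (MvPolynomial ι K) (FractionRing (MvPolynomial ι K)) ξp}) with hE₀
  have hjE₀ : E₀.map j ≤ E₁ := by
    rw [hE₀, IntermediateField.adjoin_map, adjoin_le_iff]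
    rintro _ ⟨y, (⟨i, rfl⟩ | rfl), rfl⟩
    · exact subset_adjoin k _ (Or.inl ⟨some i, by simp only [x]; rw [hjalg, MvPolynomial.rename_X]⟩)
    · exact subset_adjoin k _ (Or.inr (hjalg ξp))
  let L : IntermediateField K (FractionRing (MvPolynomial (Option ι) K)) := IntermediateField.adjoin K (Set.range (x ∘ some))
  have hjL : ∀ z, j z ∈ L := by
    intro z
    obtain ⟨a, b, -, rfl⟩ := IsFractionRing.div_surjective (A := (MvPolynomial ι K)) z
    rw [map_div₀, hjalg, hjalg]
    have h : ∀ p : (MvPolynomial ι K), i₁ (MvPolynomial.rename some p) ∈ L := by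
      intro p
      induction p using MvPolynomial.induction_on with
      | C a => rw [MvPolynomial.rename_C, ← MvPolynomial.algebraMap_eq, AlgHom.commutes]; exact L.algebraMap_mem a
      | add p q hp hq => rw [map_add, map_add]; exact add_mem hp hq
      | mul_X p i hp =>
        rw [map_mul, map_mul, MvPolynomial.rename_X]
        exact mul_mem hp (subset_adjoin K _ ⟨i, rfl⟩)
    exact div_mem (h a) (h b)
  have htr : Transcendental L (x none) := by
    rw [IntermediateField.transcendental_adjoin_iff, Set.range_comp]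
    exact ((MvPolynomial.algebraicIndependent_X (Option ι) K).map' hi₁).transcendental_adjoin (by simp)
  rw [eq_bot_iff]
  intro z hz
  let e : E₀ →+* E₁ := (j.toRingHom.comp (algebraMap E₀ (FractionRing (MvPolynomial ι K)))).codRestrict E₁ fun y => hjE₀ ⟨y, y.2, rfl⟩
  obtain ⟨w, hw⟩ := mem_range_of_transfer e j.toRingHom (RingHom.ext fun y => rfl) hE₁ (mem_separableClosure_iff.1 hz)
  have hzE : j z ∈ IntermediateField.adjoin (E₀.map j) {x none} := by
    have hle : E₁ ≤ (IntermediateField.adjoin (E₀.map j) {x none}).restrictScalars k := by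
      rw [adjoin_le_iff]
      rintro y (⟨o, rfl⟩ | rfl)
      · cases o with
        | none => exact mem_adjoin_simple_self (E₀.map j) (x none)
        | some i =>
          refine IntermediateField.algebraMap_mem _ (⟨x (some i), ?_⟩ : E₀.map j)
          exact ⟨_, subset_adjoin k _ (Or.inl ⟨i, rfl⟩), (hjalg _).trans (by rw [MvPolynomial.rename_X])⟩
      · exact IntermediateField.algebraMap_mem _ (⟨ξ, ⟨_, subset_adjoin k _ (Or.inr rfl), hjalg ξp⟩⟩ : E₀.map j)
    exact hle (hw ▸ w.2)
  obtain ⟨R, S, hRS⟩ := (mem_adjoin_simple_iff _ _).1 hzE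
  let ι₀ : E₀.map j →+* L := (algebraMap (E₀.map j) (FractionRing (MvPolynomial (Option ι) K))).codRestrict L fun y => by
    obtain ⟨y', -, hy'⟩ := y.2
    show (y : FractionRing (MvPolynomial (Option ι) K)) ∈ L
    rw [← hy']; exact hjL y'
  have hι₀ : (algebraMap L (FractionRing (MvPolynomial (Option ι) K))).comp ι₀ = algebraMap (E₀.map j) (FractionRing (MvPolynomial (Option ι) K)) := rfl
  have heval : ∀ T : Polynomial (E₀.map j), Polynomial.aeval (x none) (T.map ι₀) = Polynomial.aeval (x none) T := by
    intro T
    rw [Polynomial.aeval_def, Polynomial.eval₂_map, hι₀, ← Polynomial.aeval_def]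
  by_cases hS0 : Polynomial.aeval (x none) S = 0
  · rw [hS0, div_zero] at hRS
    have hz0 : z = 0 := j.toRingHom.injective (hRS.trans (map_zero _).symm)
    rw [hz0]
    exact zero_mem _
  have hpol : Polynomial.C (⟨j z, hjL z⟩ : L) * S.map ι₀ = R.map ι₀ := by
    refine transcendental_iff_injective.1 htr ?_
    rw [map_mul, Polynomial.aeval_C, heval, heval]
    show j z * _ = _
    rw [hRS, div_mul_cancel₀ _ hS0]
  have hS : S ≠ 0 := fun h => hS0 (by rw [h, map_zero])
  have hcoef := congrArg (fun p => ((Polynomial.coeff p S.natDegree : L) : (FractionRing (MvPolynomial (Option ι) K)))) hpol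
  simp only [Polynomial.coeff_C_mul, Polynomial.coeff_map] at hcoef
  have hlead : ((S.coeff S.natDegree : E₀.map j) : (FractionRing (MvPolynomial (Option ι) K))) ≠ 0 := by
    simpa using hS
  have hzmem : j z ∈ E₀.map j := by
    have : j z = ((R.coeff S.natDegree : E₀.map j) : (FractionRing (MvPolynomial (Option ι) K))) / ((S.coeff S.natDegree : E₀.map j) : (FractionRing (MvPolynomial (Option ι) K))) := by
      rw [eq_div_iff hlead]; exact hcoef
    rw [this]
    exact div_mem (R.coeff S.natDegree).2 (S.coeff S.natDegree).2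
  obtain ⟨y, hy, hyz⟩ := hzmem
  exact IntermediateField.mem_bot.2 ⟨⟨y, hy⟩, j.toRingHom.injective hyz⟩

end Groth.Agent.ZarLemma
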